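import Mathlib

/-!
Quasi-projective schemes of dimension `d` are covered by `d + 1` affine opens.
-/

set_option autoImplicit false
set_option linter.style.haveILetI false
universe u

open CategoryTheory CategoryTheory.Limits AlgebraicGeometry

namespace Groth.Agent.QProjCoverLib

/-- A homogeneous element of positive degree in a homogeneous ideal, outside finitely many relevant
homogeneous primes not containing that ideal. -/
theorem exists_homogeneous_notMem {A σ : Type*} [CommRing A] [SetLike σ A] [AddSubgroupClass σ A]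
    (𝒜 : ℕ → σ) [GradedRing 𝒜] (J : HomogeneousIdeal 𝒜) (G : Finset (ProjectiveSpectrum 𝒜))
    (hG : ∀ q ∈ G, ¬ J ≤ q.asHomogeneousIdeal) :
    ∃ (d : ℕ) (f : A), 0 < d ∧ f ∈ 𝒜 d ∧ f ∈ J ∧ ∀ q ∈ G, f ∉ q.asHomogeneousIdeal := by
  classical
  let Q := G.image fun q => q.asHomogeneousIdeal
  let M := Q.filter fun I => ∀ I' ∈ Q, I ≤ I' → I = I'
  have hdom : ∀ I ∈ Q, ∃ I' ∈ M, I ≤ I' := fun I hI => by
    obtain ⟨I', hII', hI'⟩ := Q.exists_le_maximal hI
    exact ⟨I', Finset.mem_filter.2 ⟨hI'.1, fun P hP hle => le_antisymm hle (hI'.2 hP hle)⟩, hII'⟩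
  have hpick : ∀ {I K : HomogeneousIdeal 𝒜}, ¬ I ≤ K → ∃ (i : ℕ) (c : A), c ∈ 𝒜 i ∧ c ∈ I ∧ c ∉ K := by
    intro I K h
    obtain ⟨y, hy, hyK⟩ := SetLike.not_le_iff_exists.1 h
    by_contra hne
    push Not at hne
    refine hyK ?_
    rw [← DirectSum.sum_support_decompose 𝒜 y]
    exact Ideal.sum_mem _ fun i _ => hne i _ (DirectSum.decompose 𝒜 y i).2 (I.isHomogeneous i hy)
  have hb : ∀ I : M, ∃ (e : ℕ) (b : A), 0 < e ∧ b ∈ 𝒜 e ∧ b ∈ J ∧ b ∉ I.1 ∧
      ∀ I' : M, I' ≠ I → b ∈ I'.1 := by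
    intro I
    obtain ⟨q, hq, hqI⟩ := Finset.mem_image.1 (Finset.mem_filter.1 I.2).1
    have hprime : I.1.toIdeal.IsPrime := hqI ▸ q.isPrime
    obtain ⟨i₁, a, ha, haJ, haI⟩ := hpick (hqI ▸ hG q hq)
    obtain ⟨i₂, x, hi₂, hx, hxI⟩ : ∃ (i : ℕ) (x : A), 0 < i ∧ x ∈ 𝒜 i ∧ x ∉ I.1 := by
      obtain ⟨i, x, hx, hxi, hxI⟩ := hpick (hqI ▸ q.not_irrelevant_le)
      refine ⟨i, x, Nat.pos_of_ne_zero fun h => hxI ?_, hx, hxI⟩
      subst h
      rw [HomogeneousIdeal.mem_irrelevant_iff, GradedRing.proj_apply, DirectSum.decompose_of_mem_same 𝒜 hx] at hxi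
      rw [hxi]
      exact zero_mem _
    have hc : ∀ I' : M, ∃ (i : ℕ) (c : A), c ∈ 𝒜 i ∧ c ∉ I.1 ∧ (I' ≠ I → c ∈ I'.1) := by
      intro I'
      by_cases h : I' = I
      · exact ⟨i₁, a, ha, haI, fun h' => absurd h h'⟩
      · obtain ⟨i, c, hc, hcI', hcI⟩ := hpick (I := I'.1) (K := I.1) fun hle => h (Subtype.ext
          ((Finset.mem_filter.1 I'.2).2 I.1 (Finset.mem_filter.1 I.2).1 hle))
        exact ⟨i, c, hc, hcI, fun _ => hcI'⟩
    choose m c hc hcI hcI' using hc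
    refine ⟨i₂ + i₁ + ∑ I' : M, m I', x * a * ∏ I' : M, c I', by omega, ?_, ?_, ?_, fun I' h => ?_⟩
    · exact SetLike.mul_mem_graded (SetLike.mul_mem_graded hx ha) (SetLike.prod_mem_graded 𝒜 m c fun I' _ => hc I')
    · exact Ideal.mul_mem_right _ _ (Ideal.mul_mem_left _ _ haJ)
    · intro h
      rcases hprime.mem_or_mem h with h | h
      · rcases hprime.mem_or_mem h with h | h
        · exact hxI h
        · exact haI h
      · obtain ⟨I', -, h⟩ := hprime.prod_mem_iff.1 h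
        exact hcI I' h
    · refine Ideal.mul_mem_left _ _ ?_
      rw [← Finset.mul_prod_erase _ _ (Finset.mem_univ I')]
      exact Ideal.mul_mem_right _ _ (hcI' I' h)
  choose e b he hbe hbJ hbI hbI' using hb
  let D := ∏ I : M, e I
  have hdvd : ∀ I : M, e I ∣ D := fun I => Finset.dvd_prod_of_mem e (Finset.mem_univ I)
  have hD : 0 < D := Finset.prod_pos fun I _ => he I
  have hpos : ∀ I : M, 0 < D / e I := fun I => Nat.div_pos (Nat.le_of_dvd hD (hdvd I)) (he I)
  refine ⟨D, ∑ I : M, b I ^ (D / e I), hD, sum_mem fun I _ => ?_,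
    Ideal.sum_mem _ fun I _ => Ideal.pow_mem_of_mem _ (hbJ I) _ (hpos I), fun q hq hf => ?_⟩
  · have := SetLike.pow_mem_graded (D / e I) (hbe I)
    rwa [smul_eq_mul, Nat.div_mul_cancel (hdvd I)] at this
  · obtain ⟨I, hI, hqI⟩ := hdom _ (Finset.mem_image_of_mem _ hq)
    obtain ⟨q', -, hq'⟩ := Finset.mem_image.1 (Finset.mem_filter.1 hI).1
    have hprime : I.toIdeal.IsPrime := hq' ▸ q'.isPrime
    have hfI : (∑ I' : M, b I' ^ (D / e I')) ∈ I.toIdeal := hqI hf
    rw [← Finset.add_sum_erase _ _ (Finset.mem_univ (⟨I, hI⟩ : M))] at hfI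
    have h2 : (∑ I' ∈ Finset.univ.erase (⟨I, hI⟩ : M), b I' ^ (D / e I')) ∈ I.toIdeal :=
      Ideal.sum_mem _ fun I' hI' => Ideal.pow_mem_of_mem _
        (hbI' I' ⟨I, hI⟩ (Finset.ne_of_mem_erase hI').symm) _ (hpos I')
    exact hbI ⟨I, hI⟩ (hprime.mem_of_pow_mem _ ((Ideal.add_mem_iff_left _ h2).1 hfI))

/-- The closed subsets of low height are covered by few affine opens. -/
theorem exists_cover {A : Type u} [CommRing A] {σ : Type*} [SetLike σ A] [AddSubgroupClass σ A] (𝒜 : ℕ → σ)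
    [GradedRing 𝒜] {X : Scheme.{u}} (j : X ⟶ Proj 𝒜) [IsImmersion j] [TopologicalSpace.NoetherianSpace X] :
    ∀ (m : ℕ) (K : Set X), IsClosed K → (∀ x ∈ K, Order.height x < (m : ℕ∞)) →
      ∃ U : Fin m → X.Opens, (∀ i, IsAffineOpen (U i)) ∧ K ⊆ ⋃ i, (U i : Set X) := by
  classical
  intro m
  induction m with
  | zero => exact fun K _ h => ⟨fun i => i.elim0, fun i => i.elim0, fun x hx => absurd (h x hx) (by simp)⟩
  | succ m ih =>
    intro K hK hh
    obtain ⟨S, hS, hSc, hSi, hKS⟩ := TopologicalSpace.NoetherianSpace.exists_finite_set_isClosed_irreducible hK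
    have hg : ∀ t : S, ∃ g : X, IsGenericPoint g t.1 := fun t => QuasiSober.sober (hSi t.1 t.2) (hSc t.1 t.2)
    choose g hg using hg
    let Zb : Set (ProjectiveSpectrum 𝒜) := closure (Set.range j) \ Set.range j
    have hZb : IsClosed Zb := by
      have h := j.isLocallyClosed_range.isOpen_coborder
      have h' := h.isClosed_compl
      rwa [coborder, compl_compl] at h'
    haveI := hS.to_subtype
    haveI := Fintype.ofFinite S
    let G : Finset (ProjectiveSpectrum 𝒜) := Finset.univ.image fun t => j (g t)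
    obtain ⟨d, f, hd, hfd, hfJ, hfG⟩ := exists_homogeneous_notMem 𝒜
      (ProjectiveSpectrum.vanishingIdeal Zb) G (fun q hq hle => by
        obtain ⟨t, -, rfl⟩ := Finset.mem_image.1 hq
        have h1 : (j (g t) : ProjectiveSpectrum 𝒜) ∈ ProjectiveSpectrum.zeroLocus _
            (ProjectiveSpectrum.vanishingIdeal Zb : Set _) := hle
        rw [ProjectiveSpectrum.zeroLocus_vanishingIdeal_eq_closure, hZb.closure_eq] at h1
        exact h1.2 (Set.mem_range_self _))
    let O : (Proj 𝒜).Opens := Proj.basicOpen 𝒜 f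
    have hO : IsAffineOpen O := Proj.isAffineOpen_basicOpen _ f hfd hd
    have hU : IsAffineOpen (j ⁻¹ᵁ O) := by
      haveI : IsPreimmersion (j ∣_ O) := IsZariskiLocalAtTarget.restrict (P := @IsPreimmersion) inferInstance O
      have hcl : IsClosed (Set.range (j ∣_ O)) := by
        have : Set.range (j ∣_ O) = O.ι ⁻¹' closure (Set.range j) := by
          refine Set.ext fun y => ⟨?_, fun hy => ?_⟩
          · rintro ⟨x, rfl⟩
            exact subset_closure ⟨x.1, (morphismRestrict_base_coe j O x).symm⟩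
          · obtain ⟨x, hx⟩ : y.1 ∈ Set.range j := by
              by_contra hn
              have h1 : y.1 ∈ O := y.2
              exact h1 ((ProjectiveSpectrum.mem_vanishingIdeal _ f).1 hfJ y.1 ⟨hy, hn⟩)
            exact ⟨⟨x, show j x ∈ O by rw [hx]; exact y.2⟩, Subtype.ext ((morphismRestrict_base_coe j O _).trans hx)⟩
        rw [this]
        exact isClosed_closure.preimage O.ι.continuous
      haveI : IsClosedImmersion (j ∣_ O) := .of_isPreimmersion _ hcl
      haveI : IsAffine O.toScheme := hO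
      exact isAffine_of_isAffineHom (j ∣_ O)
    have hlt : ∀ x ∈ K \ (j ⁻¹ᵁ O : Set X), Order.height x < (m : ℕ∞) := by
      rintro x ⟨hxK, hxO⟩
      obtain ⟨t, htS, hxt⟩ := Set.mem_sUnion.1 (hKS ▸ hxK)
      have hgx : g ⟨t, htS⟩ ⤳ x := (hg ⟨t, htS⟩).specializes hxt
      have hne : x ≠ g ⟨t, htS⟩ := by
        rintro rfl
        exact hxO (hfG _ (Finset.mem_image_of_mem _ (Finset.mem_univ _)))
      have hlt : x < g ⟨t, htS⟩ := lt_of_le_not_ge (Scheme.le_iff_specializes.2 hgx) fun h =>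
        hne (((Scheme.le_iff_specializes.1 h).antisymm hgx).eq)
      have h1 := hh _ (hKS ▸ Set.mem_sUnion.2 ⟨t, htS, (hg ⟨t, htS⟩).mem⟩)
      have h2 := (Order.height_add_one_le hlt).trans_lt h1
      rw [Nat.cast_succ] at h2
      exact lt_of_add_lt_add_right h2
    obtain ⟨U, hUaff, hcov⟩ := ih _ (hK.sdiff (j ⁻¹ᵁ O).2) hlt
    refine ⟨Fin.cons (j ⁻¹ᵁ O) U, Fin.cases hU hUaff, fun x hx => ?_⟩
    by_cases hxO : x ∈ j ⁻¹ᵁ O
    · exact Set.mem_iUnion.2 ⟨0, by simpa using hxO⟩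
    · obtain ⟨i, hi⟩ := Set.mem_iUnion.1 (hcov ⟨hx, hxO⟩)
      exact Set.mem_iUnion.2 ⟨i.succ, by simpa using hi⟩

/-- An immersion into a `Proj` covers the source by `d + 1` affine opens. -/
theorem exists_cover_dim {A : Type u} [CommRing A] {σ : Type*} [SetLike σ A] [AddSubgroupClass σ A] (𝒜 : ℕ → σ)
    [GradedRing 𝒜] {X : Scheme.{u}} (j : X ⟶ Proj 𝒜) [IsImmersion j] [TopologicalSpace.NoetherianSpace X]
    (d : ℕ) (hd : Order.krullDim X ≤ (d : WithBot ℕ∞)) :
    ∃ U : Fin (d + 1) → X.Opens, (∀ i, IsAffineOpen (U i)) ∧ ⨆ i, U i = ⊤ := by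
  obtain ⟨U, hU, hcov⟩ := exists_cover 𝒜 j (d + 1) Set.univ isClosed_univ fun x _ => by
    have h := (Order.height_le_krullDim x).trans hd
    have h' : Order.height x ≤ (d : ℕ∞) := by exact_mod_cast h
    exact h'.trans_lt (by exact_mod_cast Nat.lt_succ_self d)
  refine ⟨U, hU, TopologicalSpace.Opens.ext ?_⟩
  rw [TopologicalSpace.Opens.coe_iSup]
  exact Set.eq_univ_of_univ_subset hcov

end Groth.Agent.QProjCoverLib
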